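/-
Overgroups of a symplectic group over an extension field: basic notions.
-/
import Cfsg.Agent.Lib.MaxSub.ExtLin.Partition
import Mathlib.RingTheory.Trace.Basic

set_option autoImplicit false
set_option maxHeartbeats 400000
set_option linter.unusedSectionVars false

namespace CfsgLib.MaxSub.ExtSymp

open Module
open CfsgLib.MaxSub.ExtLin (Lin Mem Conn cl mem_cl le_cl cl_le cl_mono cl_map mem_lin mem_lin_iff finrank_lin)

variable {F K V : Type*} [Field F] [Fintype F] [Field K] [Algebra F K] [FiniteDimensional F K]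
  [AddCommGroup V] [Module F V] [Module K V] [IsScalarTower F K V] [FiniteDimensional F V]

/-- An overgroup of the symplectic group of `β` inside that of the trace form `f`. -/
structure ES (f : V →ₗ[F] V →ₗ[F] F) (β : V →ₗ[K] V →ₗ[K] K) (G : Subgroup (V ≃ₗ[F] V)) : Prop where
  tr : ∀ x y, f x y = Algebra.trace F K (β x y)
  alt : ∀ x, β x x = 0
  nd : ∀ x, (∀ y, f x y = 0) → x = 0
  tv : ∀ (a : K) (d : V), ∃ g ∈ G, ∀ y, g y = y + (a * β y d) • d
  iso : ∀ g ∈ G, ∀ x y, f (g x) (g y) = f x y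
  prime : (finrank F K).Prime
  nospread : ∃ g ∈ G, ∃ (k : K) (v : V), g (k • v) ∉ K ∙ g v

variable {f : V →ₗ[F] V →ₗ[F] F} {β : V →ₗ[K] V →ₗ[K] K} {G : Subgroup (V ≃ₗ[F] V)}

/-- Totally isotropic. -/
def TI (f : V →ₗ[F] V →ₗ[F] F) (U : Submodule F V) : Prop := ∀ x ∈ U, ∀ y ∈ U, f x y = 0

/-- The perpendicular subspace. -/
def perp (f : V →ₗ[F] V →ₗ[F] F) (U : Submodule F V) : Submodule F V where
  carrier := {y | ∀ u ∈ U, f y u = 0}
  zero_mem' u _ := by rw [map_zero, LinearMap.zero_apply]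
  add_mem' {a b} ha hb u hu := by rw [map_add, LinearMap.add_apply, ha u hu, hb u hu, add_zero]
  smul_mem' c a ha u hu := by rw [map_smul, LinearMap.smul_apply, ha u hu, smul_zero]

theorem mem_perp {U : Submodule F V} {y : V} : y ∈ perp f U ↔ ∀ u ∈ U, f y u = 0 := Iff.rfl

theorem mem_perp_span {ι : Type*} {v : ι → V} {y : V} :
    y ∈ perp f (Submodule.span F (Set.range v)) ↔ ∀ i, f y (v i) = 0 := by
  refine ⟨fun h i => h _ (Submodule.subset_span ⟨i, rfl⟩), fun h u hu => ?_⟩
  have hle : Submodule.span F (Set.range v) ≤ LinearMap.ker (f y) :=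
    Submodule.span_le.2 (by rintro _ ⟨i, rfl⟩; exact h i)
  exact hle hu

/-- The pointwise stabiliser of `U` is transitive on the perpendicular vectors outside `U`. -/
def TR (f : V →ₗ[F] V →ₗ[F] F) (G : Subgroup (V ≃ₗ[F] V)) (U : Submodule F V) : Prop :=
  ∀ x ∈ perp f U, ∀ y ∈ perp f U, x ∉ U → y ∉ U → Conn G U x y

/-- Transitivity for all totally isotropic subspaces of dimension less than `s`. -/
def Below (f : V →ₗ[F] V →ₗ[F] F) (G : Subgroup (V ≃ₗ[F] V)) (s : ℕ) : Prop :=
  ∀ U, TI f U → finrank F U < s → TR f G U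

/-- Two non-zero functionals are non-zero together somewhere. -/
theorem exists_both {k W : Type*} [Field k] [AddCommGroup W] [Module k W] {φ ψ : W →ₗ[k] k}
    (hφ : ∃ x, φ x ≠ 0) (hψ : ∃ x, ψ x ≠ 0) : ∃ x, φ x ≠ 0 ∧ ψ x ≠ 0 := by
  obtain ⟨a, ha⟩ := hφ
  obtain ⟨b, hb⟩ := hψ
  by_cases h1 : ψ a = 0
  · by_cases h2 : φ b = 0
    · exact ⟨a + b, by simp [h2, ha], by simp [h1, hb]⟩
    · exact ⟨b, h2, hb⟩
  · exact ⟨a, ha, h1⟩

theorem eq_zero_of_trace {x : K} (h : ∀ k : K, Algebra.trace F K (k * x) = 0) : x = 0 := by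
  refine (traceForm_nondegenerate F K).1 x fun k => ?_
  rw [Algebra.traceForm_apply, mul_comm]
  exact h k

theorem exists_trace_ne {x : K} (hx : x ≠ 0) : ∃ k : K, Algebra.trace F K (k * x) ≠ 0 := by
  by_contra hc
  push Not at hc
  exact hx (eq_zero_of_trace hc)

section

variable (O : ES f β G)
include O

theorem f_self (x : V) : f x x = 0 := by rw [O.tr, O.alt, map_zero]

theorem f_swap (x y : V) : f y x = -f x y := by
  have h := f_self O (x + y)
  simp only [map_add, LinearMap.add_apply, f_self O] at h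
  linear_combination h

theorem β_swap (x y : V) : β y x = -β x y := by
  have h := O.alt (x + y)
  simp only [map_add, LinearMap.add_apply, O.alt] at h
  linear_combination h

theorem f_smul_right (x : V) (k : K) (y : V) : f x (k • y) = Algebra.trace F K (k * β x y) := by
  rw [O.tr, map_smul, smul_eq_mul]

theorem f_smul_left (k : K) (x y : V) : f (k • x) y = Algebra.trace F K (k * β x y) := by
  rw [O.tr, map_smul, LinearMap.smul_apply, smul_eq_mul]

theorem mem_perp_lin {e y : V} : y ∈ perp f (Lin F K e) ↔ β y e = 0 := by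
  refine ⟨fun h => eq_zero_of_trace (F := F) fun k => ?_, fun h u hu => ?_⟩
  · rw [← f_smul_right O]
    exact h _ (mem_lin_iff.2 ⟨k, rfl⟩)
  · obtain ⟨k, rfl⟩ := mem_lin_iff.1 hu
    rw [f_smul_right O, h, mul_zero, map_zero]

theorem beta_lin {e u : V} (h : u ∈ Lin F K e) : β u e = 0 := by
  obtain ⟨k, rfl⟩ := mem_lin_iff.1 h
  rw [map_smul, LinearMap.smul_apply, O.alt, smul_zero]

theorem mem_TI {M : Submodule F V} (h : Mem G K M) : TI f M := by
  obtain ⟨g, hg, v, -, rfl⟩ := h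
  rintro _ ⟨x, hx, rfl⟩ _ ⟨y, hy, rfl⟩
  obtain ⟨a, rfl⟩ := mem_lin_iff.1 hy
  show f (g x) (g (a • v)) = 0
  rw [O.iso g hg, f_smul_right O, beta_lin O hx, mul_zero, map_zero]

theorem perp_perp {U : Submodule F V} {z : V} (h : ∀ y ∈ perp f U, f z y = 0) : z ∈ U := by
  by_contra hz
  obtain ⟨φ, hφ, hφU⟩ := Submodule.exists_dual_map_eq_bot_of_notMem hz inferInstance
  have hinj : Function.Injective f :=
    LinearMap.ker_eq_bot.1 (LinearMap.ker_eq_bot'.2 fun x hx => O.nd x fun y => by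
      rw [hx, LinearMap.zero_apply])
  obtain ⟨c, hc⟩ := (LinearMap.injective_iff_surjective_of_finrank_eq_finrank
    (Subspace.dual_finrank_eq (K := F) (V := V)).symm).1 hinj φ
  have hcp : c ∈ perp f U := fun u hu => by
    rw [hc]
    exact (Submodule.mem_bot F).1 (hφU ▸ Submodule.mem_map_of_mem hu)
  exact hφ (by rw [← hc, f_swap O, h c hcp, neg_zero])

/-- A transvection fixing `U`. -/
theorem conn_tv (U : Submodule F V) (a : K) {d : V} (hU : ∀ u ∈ U, β u d = 0) (x : V) :
    Conn G U x (x + (a * β x d) • d) := by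
  obtain ⟨g, hg, hgy⟩ := O.tv a d
  exact ⟨g, hg, fun u hu => by rw [hgy, hU u hu, mul_zero, zero_smul, add_zero], hgy x⟩

/-- The transvections at the difference of two vectors. -/
theorem conn_diff (U : Submodule F V) {x y : V} (hU : ∀ u ∈ U, β u (y - x) = 0) (hxy : β x y ≠ 0) :
    Conn G U x y := by
  have h := conn_tv O U (β x y)⁻¹ hU x
  rwa [map_sub (β x), O.alt, sub_zero, inv_mul_cancel₀ hxy, one_smul, add_sub_cancel] at h

/-- A member shifts every vector not perpendicular to it by its vectors. -/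
theorem shift {M : Submodule F V} (h : Mem G K M) {z c : V} (hz : z ∉ perp f M) (hc : c ∈ M) :
    Conn G M z (z + c) := by
  obtain ⟨g, hg, v, hv, rfl⟩ := h
  obtain ⟨c', hc', rfl⟩ := hc
  obtain ⟨k, rfl⟩ := mem_lin_iff.1 hc'
  obtain ⟨z', rfl⟩ := g.surjective z
  have hβ : β z' v ≠ 0 := fun h => hz (by
    rintro _ ⟨u, hu, rfl⟩
    show f (g z') (g u) = 0
    rw [O.iso g hg]
    exact (mem_perp_lin O).2 h u hu)
  obtain ⟨t, ht, hty⟩ := O.tv (k / β z' v) v
  refine ⟨g * t * g⁻¹, mul_mem (mul_mem hg ht) (inv_mem hg), ?_, ?_⟩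
  · rintro _ ⟨u, hu, rfl⟩
    show g (t (g.symm (g u))) = g u
    rw [g.symm_apply_apply, hty, beta_lin O hu, mul_zero, zero_smul, add_zero]
  · show g (t (g.symm (g z'))) = g z' + g (k • v)
    rw [g.symm_apply_apply, hty, div_mul_cancel₀ k hβ, map_add]

/-- Non-zero vectors are joined by `K`-linear elements. -/
theorem lin_move {x y : V} (hx : x ≠ 0) (hy : y ≠ 0) :
    ∃ g ∈ G, (∀ (k : K) (v : V), g (k • v) = k • g v) ∧ g x = y := by
  have key : ∀ x y : V, β x y ≠ 0 → ∃ g ∈ G, (∀ (k : K) (v : V), g (k • v) = k • g v) ∧ g x = y := by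
    intro x y h
    obtain ⟨g, hg, hgy⟩ := O.tv (β x y)⁻¹ (y - x)
    refine ⟨g, hg, fun k v => ?_, ?_⟩
    · rw [hgy, hgy, map_smul, LinearMap.smul_apply, smul_add, smul_smul, smul_eq_mul, mul_left_comm]
    · rw [hgy, map_sub (β x), O.alt, sub_zero, inv_mul_cancel₀ h, one_smul, add_sub_cancel]
  have hne : ∀ x : V, x ≠ 0 → ∃ z, β x z ≠ 0 := fun x hx => by
    by_contra hc
    push Not at hc
    exact hx (O.nd x fun z => by rw [O.tr, hc, map_zero])
  obtain ⟨z, hz, hz'⟩ := exists_both (φ := β x) (ψ := β y) (hne x hx) (hne y hy)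
  obtain ⟨g₁, h₁, l₁, e₁⟩ := key x z hz
  obtain ⟨g₂, h₂, l₂, e₂⟩ := key z y (by rw [β_swap O]; exact neg_ne_zero.2 hz')
  refine ⟨g₂ * g₁, mul_mem h₂ h₁, fun k v => ?_, ?_⟩
  · show g₂ (g₁ (k • v)) = k • g₂ (g₁ v)
    rw [l₁, l₂]
  · show g₂ (g₁ x) = y
    rw [e₁, e₂]

theorem tr_bot : TR f G (⊥ : Submodule F V) := by
  intro x _ y _ hx hy
  obtain ⟨g, hg, -, he⟩ := lin_move O (x := x) (y := y)
    (fun e => hx ((Submodule.mem_bot F).2 e)) (fun e => hy ((Submodule.mem_bot F).2 e))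
  exact ⟨g, hg, fun u hu => by rw [(Submodule.mem_bot F).1 hu, map_zero], he⟩

theorem perp_map {U : Submodule F V} {g : V ≃ₗ[F] V} (hg : g ∈ G) {z : V} :
    g z ∈ perp f (U.map g.toLinearMap) ↔ z ∈ perp f U := by
  refine ⟨fun h u hu => ?_, ?_⟩
  · rw [← O.iso g hg]; exact h _ ⟨u, hu, rfl⟩
  · rintro h _ ⟨u, hu, rfl⟩
    show f (g z) (g u) = 0
    rw [O.iso g hg]; exact h u hu

theorem TR_map {U : Submodule F V} (h : TR f G U) {g : V ≃ₗ[F] V} (hg : g ∈ G) :
    TR f G (U.map g.toLinearMap) := by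
  intro x hx y hy hxU hyU
  obtain ⟨x', rfl⟩ := g.surjective x
  obtain ⟨y', rfl⟩ := g.surjective y
  obtain ⟨t, ht, htU, rfl⟩ := h x' ((perp_map O hg).1 hx) y' ((perp_map O hg).1 hy)
    (fun h' => hxU ⟨x', h', rfl⟩) (fun h' => hyU ⟨y', h', rfl⟩)
  refine ⟨g * t * g⁻¹, mul_mem (mul_mem hg ht) (inv_mem hg), ?_, ?_⟩
  · rintro _ ⟨u, hu, rfl⟩
    show g (t (g.symm (g u))) = g u
    rw [g.symm_apply_apply, htU u hu]
  · show g (t (g.symm (g x'))) = _
    rw [g.symm_apply_apply]

theorem TI_span {ι : Type*} {v : ι → V} (h : ∀ i j, f (v i) (v j) = 0) :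
    TI f (Submodule.span F (Set.range v)) := by
  intro x hx y hy
  refine (mem_perp_span (f := f)).2 (fun i => ?_) y hy
  rw [f_swap O, (mem_perp_span (f := f)).2 (fun j => h i j) x hx, neg_zero]

/-- Totally isotropic independent tuples are conjugate. -/
theorem move {s : ℕ} (hb : Below f G s) : ∀ {i : ℕ}, i ≤ s → ∀ (x y : Fin i → V),
    LinearIndependent F x → LinearIndependent F y → (∀ a b, f (x a) (x b) = 0) →
      (∀ a b, f (y a) (y b) = 0) → ∃ g ∈ G, ∀ a, g (x a) = y a := by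
  intro i
  induction i with
  | zero => exact fun _ x y _ _ _ _ => ⟨1, one_mem G, fun a => a.elim0⟩
  | succ i ih =>
    intro his x y hx hy hxx hyy
    rw [← Fin.snoc_init_self x, linearIndependent_finSnoc] at hx
    rw [← Fin.snoc_init_self y, linearIndependent_finSnoc] at hy
    obtain ⟨g, hg, hgi⟩ := ih (by omega) (Fin.init x) (Fin.init y) hx.1 hy.1
      (fun a b => hxx _ _) (fun a b => hyy _ _)
    have hgi' : ∀ a : Fin i, g (x a.castSucc) = y a.castSucc := hgi
    have hU : finrank F (Submodule.span F (Set.range (Fin.init y))) = i := by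
      rw [finrank_span_eq_card hy.1, Fintype.card_fin]
    have hxU : g (x (Fin.last i)) ∉ Submodule.span F (Set.range (Fin.init y)) := fun h => by
      refine hx.2 ?_
      rw [show Fin.init y = g.toLinearMap ∘ Fin.init x from funext fun a => (hgi a).symm,
        Set.range_comp, ← Submodule.map_span] at h
      obtain ⟨w, hw, hwe⟩ := h
      exact g.injective hwe ▸ hw
    obtain ⟨t, ht, htU, htx⟩ := hb _ (TI_span O fun a b => hyy _ _) (by change finrank F (Submodule.span F (Set.range (Fin.init y))) < s; rw [hU]; omega)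
      (g (x (Fin.last i))) (mem_perp_span.2 fun a => by
        show f (g (x (Fin.last i))) (y a.castSucc) = 0
        rw [← hgi', O.iso g hg]; exact hxx _ _)
      (y (Fin.last i)) (mem_perp_span.2 fun a => hyy _ _) hxU hy.2
    refine ⟨t * g, mul_mem ht hg, fun a => ?_⟩
    show t (g (x a)) = y a
    induction a using Fin.lastCases with
    | last => exact htx
    | cast j => rw [hgi']; exact htU _ (Submodule.subset_span ⟨j, rfl⟩)

theorem map_subspace {s d : ℕ} (hb : Below f G s) (hd : d ≤ s) {U U' : Submodule F V}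
    (hU : finrank F U = d) (hU' : finrank F U' = d) (hT : TI f U) (hT' : TI f U') :
    ∃ g ∈ G, U.map g.toLinearMap = U' := by
  let b := Module.finBasisOfFinrankEq F U hU
  let b' := Module.finBasisOfFinrankEq F U' hU'
  obtain ⟨g, hg, hgi⟩ := move O hb hd (fun i => (b i : V)) (fun i => (b' i : V))
    (b.linearIndependent.map' U.subtype U.ker_subtype)
    (b'.linearIndependent.map' U'.subtype U'.ker_subtype)
    (fun i j => hT _ (b i).2 _ (b j).2) (fun i j => hT' _ (b' i).2 _ (b' j).2)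
  refine ⟨g, hg, ?_⟩
  rw [← ExtLin.span_basis b, ← ExtLin.span_basis b', Submodule.map_span, ← Set.range_comp]
  congr 2
  exact funext hgi

theorem below_succ {s : ℕ} (hb : Below f G s) {U : Submodule F V} (hT : TI f U)
    (hU : finrank F U = s) (h : TR f G U) : Below f G (s + 1) := by
  intro U' hT' hU'
  rcases Nat.lt_succ_iff_lt_or_eq.1 hU' with h' | h'
  · exact hb U' hT' h'
  · obtain ⟨g, hg, rfl⟩ := map_subspace O hb le_rfl hU h' hT hT'
    exact TR_map O h hg

end

end CfsgLib.MaxSub.ExtSymp
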