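/-
Transitivity of an overgroup on totally isotropic tuples.
-/
import Cfsg.Agent.Lib.MaxSub.ExtSymp.Basic

set_option autoImplicit false
set_option maxHeartbeats 400000
set_option linter.unusedSectionVars false

namespace CfsgLib.MaxSub.ExtSymp

open Module
open CfsgLib.MaxSub.ExtLin (Lin Mem Conn cl mem_cl le_cl cl_le cl_mono cl_map mem_lin mem_lin_iff finrank_lin)

variable {F K V : Type*} [Field F] [Fintype F] [Field K] [Algebra F K] [FiniteDimensional F K]
  [AddCommGroup V] [Module F V] [Module K V] [IsScalarTower F K V] [FiniteDimensional F V]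
  {f : V →ₗ[F] V →ₗ[F] F} {β : V →ₗ[K] V →ₗ[K] K} {G : Subgroup (V ≃ₗ[F] V)}

omit [Fintype F] [FiniteDimensional F K] in
/-- A subspace of prescribed dimension. -/
theorem exists_sub {L : Submodule F V} {s : ℕ} (hs : s ≤ finrank F L) :
    ∃ U ≤ L, finrank F U = s := by
  let b := Module.finBasis F L
  refine ⟨Submodule.span F (Set.range fun i : Fin s => (b (i.castLE hs) : V)),
    Submodule.span_le.2 (by rintro _ ⟨i, rfl⟩; exact (b _).2), ?_⟩
  rw [finrank_span_eq_card (b := fun i : Fin s => (b (i.castLE hs) : V))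
    ((b.linearIndependent.map' L.subtype L.ker_subtype).comp _ (Fin.castLE_injective hs)),
    Fintype.card_fin]

section

variable (O : ES f β G)
include O

/-- The closure of a point is the point. -/
theorem cl_point {x : V} (hx : x ≠ 0) : cl K G (F ∙ x) = F ∙ x := by
  have hpt : ∀ y : V, y ≠ 0 → finrank F (cl K G (F ∙ y)) = finrank F (cl K G (F ∙ x)) := fun y hy => by
    obtain ⟨g, hg, -, hgx⟩ := lin_move O hx hy
    have : (F ∙ x).map g.toLinearMap = F ∙ y := by
      rw [Submodule.map_span, Set.image_singleton]; simp [hgx]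
    rw [← this, cl_map _ hg, LinearEquiv.finrank_map_eq]
  have hD : cl K G (F ∙ x) ≤ Lin F K x := cl_le (mem_lin hx)
    ((Submodule.span_singleton_le_iff_mem _ _).2 (mem_lin_iff.2 ⟨1, one_smul _ _⟩))
  have hmul : ∀ lam mu : K, lam • x ∈ cl K G (F ∙ x) → mu • x ∈ cl K G (F ∙ x) →
      (lam * mu) • x ∈ cl K G (F ∙ x) := by
    intro lam mu hl hm
    rcases eq_or_ne lam 0 with rfl | hl0
    · rw [zero_mul, zero_smul]; exact zero_mem _
    have hlx : lam • x ≠ 0 := smul_ne_zero hl0 hx
    obtain ⟨g, hg, hlin, hgx⟩ := lin_move O hx hlx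
    have hmap : (F ∙ x).map g.toLinearMap = F ∙ (lam • x) := by
      rw [Submodule.map_span, Set.image_singleton]; simp [hgx]
    have heq : cl K G (F ∙ (lam • x)) = cl K G (F ∙ x) :=
      Submodule.eq_of_le_of_finrank_eq (cl_mono ((Submodule.span_singleton_le_iff_mem _ _).2 hl))
        (hpt _ hlx)
    rw [← heq, ← hmap, cl_map _ hg]
    exact ⟨mu • x, hm, by show g (mu • x) = _; rw [hlin, hgx, smul_smul, mul_comm]⟩
  let S : Subalgebra F K :=
    { carrier := {lam | lam • x ∈ cl K G (F ∙ x)}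
      mul_mem' := fun {a b} ha hb => hmul a b ha hb
      add_mem' := fun {a b} ha hb => by
        show (a + b) • x ∈ cl K G (F ∙ x)
        rw [add_smul]; exact add_mem ha hb
      algebraMap_mem' := fun c => by
        show algebraMap F K c • x ∈ cl K G (F ∙ x)
        rw [algebraMap_smul]
        exact le_cl _ (Submodule.smul_mem _ c (Submodule.mem_span_singleton_self x)) }
  have := Subalgebra.isSimpleOrder_of_finrank_prime F K O.prime
  rcases eq_bot_or_eq_top S with h | h
  · refine le_antisymm (fun z hz => ?_) (le_cl _)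
    obtain ⟨lam, rfl⟩ := mem_lin_iff.1 (hD hz)
    have h1 : lam ∈ S := hz
    rw [h, Algebra.mem_bot] at h1
    obtain ⟨c, rfl⟩ := h1
    rw [algebraMap_smul]
    exact Submodule.smul_mem _ c (Submodule.mem_span_singleton_self x)
  · exfalso
    obtain ⟨g, hg, k, v, hgv⟩ := O.nospread
    have hv : v ≠ 0 := fun e => hgv (by simp [e])
    have hfull : cl K G (F ∙ x) = Lin F K x := le_antisymm hD fun z hz => by
      obtain ⟨lam, rfl⟩ := mem_lin_iff.1 hz
      have h1 : lam ∈ S := h ▸ Algebra.mem_top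
      exact h1
    have key : ∀ y : V, y ≠ 0 → cl K G (F ∙ y) = Lin F K y := fun y hy =>
      Submodule.eq_of_le_of_finrank_eq (cl_le (mem_lin hy)
        ((Submodule.span_singleton_le_iff_mem _ _).2 (Submodule.mem_span_singleton_self y)))
        (by rw [hpt y hy, hfull, finrank_lin hx, finrank_lin hy])
    have hmem : g (k • v) ∈ (cl K G (F ∙ v)).map g.toLinearMap :=
      ⟨k • v, by rw [key v hv]; exact mem_lin_iff.2 ⟨k, rfl⟩, rfl⟩
    rw [← cl_map _ hg, Submodule.map_span, Set.image_singleton,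
      key _ (show g.toLinearMap v ≠ 0 from fun e => hv (g.map_eq_zero_iff.1 e))] at hmem
    exact hgv hmem

/-- The closure of a subspace of a line is itself. -/
theorem cl_eq_self {s : ℕ} (hb : Below f G s) (hs : 0 < s) (hsr : s < finrank F K) {e : V}
    (he : e ≠ 0) {U : Submodule F V} (hUL : U ≤ Lin F K e) (hU : finrank F U = s) :
    cl K G U = U := by
  have hLT : TI f (Lin F K e) := mem_TI O (mem_lin he)
  have hmemb : ∀ W, TI f W → finrank F W = s →
      (∃ M, Mem G K M ∧ W ≤ M) ∧ finrank F (cl K G W) = finrank F (cl K G U) := fun W hW hWd => by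
    obtain ⟨g, hg, rfl⟩ := map_subspace O hb le_rfl hU hWd (fun a ha b hb' => hLT a (hUL ha) b (hUL hb')) hW
    exact ⟨⟨_, (mem_lin he).map hg, Submodule.map_mono hUL⟩, by
      rw [cl_map _ hg, LinearEquiv.finrank_map_eq]⟩
  suffices hd : finrank F (cl K G U) = s from
    (Submodule.eq_of_le_of_finrank_eq (le_cl U) (hU.trans hd.symm)).symm
  rcases eq_or_ne s 1 with rfl | hs1
  · obtain ⟨x, hx0, hx⟩ := finrank_eq_one_iff'.1 hU
    have : U = F ∙ (x : V) := le_antisymm (fun u hu => by
      obtain ⟨c, hc⟩ := hx ⟨u, hu⟩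
      exact Submodule.mem_span_singleton.2 ⟨c, congrArg Subtype.val hc⟩)
      ((Submodule.span_singleton_le_iff_mem _ _).2 x.2)
    have hx0' : (x : V) ≠ 0 := fun e0 => hx0 (Subtype.ext e0)
    rw [this, cl_point O hx0', finrank_span_singleton hx0']
  obtain ⟨U₀, hU₀U, hU₀⟩ := exists_sub (L := U) (s := s - 1) (by omega)
  have hU₀L : U₀ ≤ Lin F K e := hU₀U.trans hUL
  have hU₀0 : ∀ u ∈ U₀, β u e = 0 := fun u hu => beta_lin O (hU₀L hu)
  obtain ⟨c, hc, hce⟩ : ∃ c ∈ perp f U₀, β c e ≠ 0 := by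
    by_contra hno
    push Not at hno
    have hle : Lin F K e ≤ U₀ := fun z hz => perp_perp O fun y hy => by
      rw [f_swap O]
      rw [show f y z = 0 from (mem_perp_lin O).2 (hno y hy) z hz, neg_zero]
    have := Submodule.finrank_mono hle
    rw [finrank_lin he] at this
    omega
  have hcU : c ∉ U₀ := fun h => hce (hU₀0 c h)
  have hdim : ∀ p, p ∉ U₀ → finrank F ↥(U₀ ⊔ F ∙ p) = s := fun p hp => by
    have h1 := Submodule.finrank_add_le_finrank_add_finrank U₀ (F ∙ p)
    have h2 : U₀ < U₀ ⊔ F ∙ p := lt_of_le_of_ne le_sup_left fun e' =>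
      hp (e' ▸ Submodule.mem_sup_right (Submodule.mem_span_singleton_self p))
    have h3 := Submodule.finrank_lt_finrank_of_lt h2
    rw [finrank_span_singleton fun e' : p = 0 => hp (e' ▸ U₀.zero_mem)] at h1
    omega
  have hTI : ∀ p ∈ perp f U₀, TI f (U₀ ⊔ F ∙ p) := fun p hp => by
    have hU₀T : TI f U₀ := fun a ha b hb' => hLT a (hU₀L ha) b (hU₀L hb')
    intro x hx y hy
    obtain ⟨u, hu, z, hz, rfl⟩ := Submodule.mem_sup.1 hx
    obtain ⟨u', hu', z', hz', rfl⟩ := Submodule.mem_sup.1 hy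
    obtain ⟨a, rfl⟩ := Submodule.mem_span_singleton.1 hz
    obtain ⟨a', rfl⟩ := Submodule.mem_span_singleton.1 hz'
    simp [hU₀T u hu u' hu', hp u' hu', f_self O, f_swap O p u, hp u hu]
  obtain ⟨⟨M, hM, hcM⟩, hdc⟩ := hmemb _ (hTI c hc) (hdim c hcU)
  obtain ⟨C, hCdef⟩ : ∃ C, cl K G (U₀ ⊔ F ∙ c) = C := ⟨_, rfl⟩
  have hU₀C : U₀ ≤ C := hCdef ▸ le_sup_left.trans (le_cl _)
  have hcC : c ∈ C := hCdef ▸ le_cl _ (Submodule.mem_sup_right (Submodule.mem_span_singleton_self c))
  have hCM : C ≤ M := hCdef ▸ cl_le hM hcM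
  have hCT : ∀ p ∈ C, p ∈ perp f U₀ := fun p hp u hu => mem_TI O hM p (hCM hp) u (hCM (hU₀C hu))
  -- the root elements fixing `C`
  have hfix : ∀ (g : V ≃ₗ[F] V), g ∈ G → (∀ u ∈ U₀, g u = u) → ∀ p ∈ C, p ∉ U₀ →
      g p ∈ U₀ ⊔ F ∙ p → ∀ z ∈ C, g z ∈ C := by
    intro g hg hgU p hp hpU hgp z hz
    have heq : cl K G (U₀ ⊔ F ∙ p) = C := by
      rw [← hCdef]
      refine Submodule.eq_of_le_of_finrank_eq (cl_mono ?_) ?_
      · rw [hCdef]
        exact sup_le hU₀C ((Submodule.span_singleton_le_iff_mem _ _).2 hp)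
      · rw [(hmemb _ (hTI p (hCT p hp)) (hdim p hpU)).2, hdc]
    have hmap : (U₀ ⊔ F ∙ p).map g.toLinearMap ≤ U₀ ⊔ F ∙ p := by
      rw [Submodule.map_sup]
      refine sup_le ?_ ?_
      · rintro _ ⟨u, hu, rfl⟩
        show g u ∈ _
        rw [hgU u hu]; exact Submodule.mem_sup_left hu
      · rw [Submodule.map_span, Set.image_singleton, Submodule.span_singleton_le_iff_mem]
        exact hgp
    have := Submodule.eq_of_le_of_finrank_eq hmap (LinearEquiv.finrank_map_eq _ _)
    rw [← heq, ← this, cl_map _ hg]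
    exact ⟨z, heq.symm ▸ hz, rfl⟩
  have hzero : ∀ p ∈ C, β p e = 0 → p ∈ U₀ := fun p hp hpe => by
    by_contra hpU
    have hLC : Lin F K e ≤ C := fun z hz => by
      obtain ⟨k, rfl⟩ := mem_lin_iff.1 hz
      obtain ⟨g, hg, hgy⟩ := O.tv (k / β c e) e
      have hfixv : ∀ y, β y e = 0 → g y = y := fun y hy => by
        rw [hgy, hy, mul_zero, zero_smul, add_zero]
      have h1 := hfix g hg (fun u hu => hfixv u (hU₀0 u hu)) p hp hpU
        (by rw [hfixv p hpe]; exact Submodule.mem_sup_right (Submodule.mem_span_singleton_self p)) c hcC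
      rw [hgy, div_mul_cancel₀ k hce] at h1
      simpa using C.sub_mem h1 hcC
    have hML : Lin F K e = M := Submodule.eq_of_le_of_finrank_eq (hLC.trans hCM)
      (by rw [finrank_lin he, hM.finrank_eq])
    exact hce (beta_lin O (hML ▸ hCM hcC))
  -- the multipliers of the coordinates of `U₀`
  let B : Submodule F K := U₀.comap ((LinearMap.id : K →ₗ[K] K).smulRight e |>.restrictScalars F)
  have hB : ∀ k : K, k ∈ B ↔ k • e ∈ U₀ := fun k => Iff.rfl
  let S : Subalgebra F K :=
    { carrier := {lam | ∀ b ∈ B, lam * b ∈ B}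
      mul_mem' := fun {a b} ha hb' x hx => by rw [mul_assoc]; exact ha _ (hb' x hx)
      add_mem' := fun {a b} ha hb' x hx => by rw [add_mul]; exact B.add_mem (ha x hx) (hb' x hx)
      algebraMap_mem' := fun a x hx => by rw [← Algebra.smul_def]; exact B.smul_mem a hx }
  have := Subalgebra.isSimpleOrder_of_finrank_prime F K O.prime
  have hS : S = ⊥ := by
    rcases eq_bot_or_eq_top S with h | h
    · exact h
    exfalso
    obtain ⟨u, hu, hu0⟩ := Submodule.exists_mem_ne_zero_of_ne_bot (show U₀ ≠ ⊥ from fun h0 => by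
      rw [h0, finrank_bot] at hU₀; omega)
    obtain ⟨b₀, rfl⟩ := mem_lin_iff.1 (hU₀L hu)
    have hb₀ : b₀ ≠ 0 := fun h0 => hu0 (by rw [h0, zero_smul])
    have hle : Lin F K e ≤ U₀ := fun z hz => by
      obtain ⟨k, rfl⟩ := mem_lin_iff.1 hz
      have h1 : k / b₀ ∈ S := h ▸ Algebra.mem_top
      have h2 := (hB _).1 (h1 b₀ hu)
      rwa [div_mul_cancel₀ k hb₀] at h2
    have := Submodule.finrank_mono hle
    rw [finrank_lin he] at this
    omega
  have hCle : C ≤ U₀ ⊔ F ∙ c := by
    intro p hp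
    have hlam : β p e / β c e ∈ S := by
      intro b hb'
      obtain ⟨g, hg, hgy⟩ := O.tv (b / β c e) e
      have hgU : ∀ u ∈ U₀, g u = u := fun u hu => by
        rw [hgy, hU₀0 u hu, mul_zero, zero_smul, add_zero]
      have h1 := hfix g hg hgU c hcC hcU (by
        rw [hgy, div_mul_cancel₀ b hce]
        exact add_mem (Submodule.mem_sup_right (Submodule.mem_span_singleton_self c))
          (Submodule.mem_sup_left ((hB b).1 hb'))) p hp
      rw [hgy] at h1
      have h2 : (b / β c e * β p e) • e ∈ C := by simpa using C.sub_mem h1 hp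
      have h3 := hzero _ h2 (beta_lin O (mem_lin_iff.2 ⟨_, rfl⟩))
      rw [hB, show β p e / β c e * b = b / β c e * β p e by ring]
      exact h3
    rw [hS, Algebra.mem_bot] at hlam
    obtain ⟨mu, hmu⟩ := hlam
    have h1 : p - mu • c ∈ U₀ := by
      refine hzero _ (C.sub_mem hp (C.smul_mem mu hcC)) ?_
      rw [map_sub, LinearMap.sub_apply, ← algebraMap_smul K mu c, map_smul, LinearMap.smul_apply,
        smul_eq_mul, hmu, div_mul_cancel₀ _ hce, sub_self]
    exact Submodule.mem_sup.2 ⟨_, h1, _, Submodule.smul_mem _ mu (Submodule.mem_span_singleton_self c),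
      sub_add_cancel _ _⟩
  refine le_antisymm ?_ (hU ▸ Submodule.finrank_mono (le_cl U))
  rw [← hdc, hCdef]
  exact (Submodule.finrank_mono hCle).trans (hdim c hcU).le

/-- Only the vectors of `U` are perpendicular to all the members containing it. -/
theorem perp_members {s : ℕ} (hb : Below f G s) (hs : 0 < s) (hsr : s < finrank F K) {e : V}
    (he : e ≠ 0) {U : Submodule F V} (hUL : U ≤ Lin F K e) (hU : finrank F U = s) {z : V}
    (hz : ∀ N, Mem G K N → U ≤ N → z ∈ perp f N) : z ∈ U := by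
  rw [← cl_eq_self O hb hs hsr he hUL hU, mem_cl]
  intro M hM hUM
  obtain ⟨g, hg, v, hv, rfl⟩ := hM
  obtain ⟨y, rfl⟩ := g.surjective z
  refine ⟨y, ?_, rfl⟩
  obtain ⟨U', hU', rfl⟩ : ∃ U', U' ≤ Lin F K v ∧ U'.map g.toLinearMap = U :=
    ⟨_, (Submodule.comap_mono hUM).trans (Submodule.comap_map_eq_of_injective g.injective _).le,
      Submodule.map_comap_eq_of_surjective g.surjective _⟩
  rw [LinearEquiv.finrank_map_eq] at hU
  have hy : ∀ N, Mem G K N → U' ≤ N → y ∈ perp f N := fun N hN hUN =>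
    (perp_map O hg).1 (hz _ (hN.map hg) (Submodule.map_mono hUN))
  by_contra hyL
  -- another member
  obtain ⟨N, hN, hUN, hNL⟩ : ∃ N, Mem G K N ∧ U' ≤ N ∧ ¬ N ≤ Lin F K v := by
    by_contra hno
    push Not at hno
    have h1 : Lin F K v ≤ cl K G U' := fun w hw => mem_cl.2 fun N hN hUN =>
      (Submodule.eq_of_le_of_finrank_eq (hno N hN hUN) (by rw [hN.finrank_eq, finrank_lin hv])).symm ▸ hw
    have := Submodule.finrank_mono h1
    rw [cl_eq_self O hb hs hsr hv hU' hU, hU, finrank_lin hv] at this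
    omega
  obtain ⟨x, hxN, hxL⟩ := SetLike.not_le_iff_exists.1 hNL
  have hyv : β y v = 0 := (mem_perp_lin O).1 (hy _ (mem_lin hv) hU')
  have hne : ∀ w, w ∉ Lin F K v → ∃ d : LinearMap.ker (β.flip v), (β w).comp (LinearMap.ker (β.flip v)).subtype d ≠ 0 := by
    intro w hw
    by_contra hno
    push Not at hno
    refine hw (perp_perp O fun d hd => ?_)
    rw [O.tr, show β w d = 0 from hno ⟨d, LinearMap.mem_ker.2 ((mem_perp_lin O).1 hd)⟩, map_zero]
  obtain ⟨⟨d, hd⟩, hdy, hdx⟩ := exists_both (hne y hyL) (hne x hxL)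
  have hdy' : β y d ≠ 0 := hdy
  have hdx' : β x d ≠ 0 := hdx
  obtain ⟨k, hk⟩ := exists_trace_ne (F := F) hdy'
  obtain ⟨t, ht, hty⟩ := O.tv (k / β x d) d
  have htU : ∀ u ∈ U', t u = u := fun u hu => by
    obtain ⟨a, rfl⟩ := mem_lin_iff.1 (hU' hu)
    have hvd : β v d = 0 := by
      rw [β_swap O, show β d v = 0 from LinearMap.mem_ker.1 hd, neg_zero]
    rw [hty, map_smul, LinearMap.smul_apply, hvd, smul_zero, mul_zero, zero_smul, add_zero]
  have h1 := hy _ (hN.map ht) (fun u hu => ⟨u, hUN hu, htU u hu⟩) _ ⟨x, hxN, rfl⟩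
  change f y (t x) = 0 at h1
  rw [hty, map_add, f_smul_right O, div_mul_cancel₀ k hdx', hy N hN hUN x hxN, zero_add] at h1
  exact hk h1

/-- Transitivity off the subspaces of a line. -/
theorem tr_in_line {s : ℕ} (hb : Below f G s) (hs : 0 < s) (hsr : s < finrank F K) {e : V}
    (he : e ≠ 0) {U : Submodule F V} (hUL : U ≤ Lin F K e) (hU : finrank F U = s) : TR f G U := by
  have hpm := fun z => perp_members O hb hs hsr he hUL hU (z := z)
  have hUperp : ∀ y, β y e = 0 → y ∈ perp f U := fun y hy u hu => (mem_perp_lin O).2 hy u (hUL hu)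
  have hU0 : ∀ u ∈ U, β u e = 0 := fun u hu => beta_lin O (hUL hu)
  have hee : β e e = 0 := O.alt e
  -- members reaching outside the perpendicular of the line
  have hout : ∀ z, z ∈ Lin F K e → z ∉ U →
      ∃ N, Mem G K N ∧ U ≤ N ∧ ∃ n ∈ N, f n z ≠ 0 := fun z hzL hzU => by
    by_contra hno
    push Not at hno
    exact hzU (hpm z fun N hN hUN n hn => by rw [f_swap O, hno N hN hUN n hn, neg_zero])
  -- vectors with the same non-zero value
  have hsame : ∀ x y, β x e ≠ 0 → β x e = β y e → Conn G U x y := by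
    intro x y hx hxy
    have key : ∀ a b, β a e = β b e → β a b ≠ 0 → Conn G U a b := fun a b hab h => by
      refine conn_diff O U (fun u hu => ?_) h
      obtain ⟨k, rfl⟩ := mem_lin_iff.1 (hUL hu)
      rw [map_smul, LinearMap.smul_apply, β_swap O, map_sub, LinearMap.sub_apply, hab, sub_self, neg_zero,
        smul_zero]
    by_cases h : β x y = 0
    swap
    · exact key x y hxy h
    have h1 : Conn G U x (x + e) := by
      have := conn_tv O U (β x e)⁻¹ hU0 x
      rwa [inv_mul_cancel₀ hx, one_smul] at this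
    refine h1.trans (key _ _ (by rw [map_add, LinearMap.add_apply, hee, add_zero, hxy]) ?_)
    rw [map_add, LinearMap.add_apply, h, zero_add, β_swap O, ← hxy]
    exact neg_ne_zero.2 hx
  -- every vector reaches a non-zero value
  have hreach : ∀ x ∈ perp f U, x ∉ U → ∃ x', x' ∈ perp f U ∧ β x' e ≠ 0 ∧ Conn G U x x' := by
    intro x hx hxU
    by_cases hxe : β x e = 0
    swap
    · exact ⟨x, hx, hxe, Conn.refl U x⟩
    -- a member with a vector outside the perpendicular of the line, not perpendicular to a conjugate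
    obtain ⟨x₁, hx₁e, hc₁, N, hN, hUN, n, hn, hne, hxn⟩ : ∃ x₁, β x₁ e = 0 ∧ Conn G U x x₁ ∧
        ∃ N, Mem G K N ∧ U ≤ N ∧ ∃ n ∈ N, β n e ≠ 0 ∧ ∃ n' ∈ N, f x₁ n' ≠ 0 := by
      by_cases hxL : x ∈ Lin F K e
      · obtain ⟨N, hN, hUN, n, hn, hnx⟩ := hout x hxL hxU
        refine ⟨x, hxe, Conn.refl U x, N, hN, hUN, n, hn, fun h => hnx ((mem_perp_lin O).2 h x hxL),
          n, hn, fun h => hnx ?_⟩
        rw [f_swap O, h, neg_zero]
      obtain ⟨z, hzL, hzU⟩ := SetLike.exists_of_lt (lt_of_le_of_ne hUL fun h => by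
        rw [h, finrank_lin he] at hU; omega)
      obtain ⟨N, hN, hUN, n, hn, hnz⟩ := hout z hzL hzU
      have hne : β n e ≠ 0 := fun h => hnz ((mem_perp_lin O).2 h z hzL)
      by_cases hxn : x ∈ perp f N
      swap
      · rw [mem_perp] at hxn
        push Not at hxn
        exact ⟨x, hxe, Conn.refl U x, N, hN, hUN, n, hn, hne, hxn⟩
      let W := LinearMap.ker (β.flip e)
      have hWx : ∃ d : W, (β x).comp W.subtype d ≠ 0 := by
        by_contra hno
        push Not at hno
        refine hxL (perp_perp O fun d hd => ?_)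
        rw [O.tr, show β x d = 0 from hno ⟨d, LinearMap.mem_ker.2 ((mem_perp_lin O).1 hd)⟩, map_zero]
      have hWn : ∃ d : W, (β.flip n).comp W.subtype d ≠ 0 :=
        ⟨⟨e, LinearMap.mem_ker.2 hee⟩, fun h => hne (by
          rw [β_swap O, show β e n = 0 from h, neg_zero])⟩
      obtain ⟨⟨d, hd⟩, hdx, hdn⟩ := exists_both hWx hWn
      have hdx' : β x d ≠ 0 := hdx
      have hdn' : β d n ≠ 0 := hdn
      obtain ⟨k, hk⟩ := exists_trace_ne (F := F) hdn'
      have hde : β d e = 0 := LinearMap.mem_ker.1 hd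
      have hUd : ∀ u ∈ U, β u d = 0 := fun u hu => by
        obtain ⟨a, rfl⟩ := mem_lin_iff.1 (hUL hu)
        rw [map_smul, LinearMap.smul_apply, β_swap O, hde, neg_zero, smul_zero]
      have h1 := conn_tv O U (k / β x d) hUd x
      rw [div_mul_cancel₀ k hdx'] at h1
      refine ⟨x + k • d, by
        rw [map_add, LinearMap.add_apply, map_smul, LinearMap.smul_apply, hxe, hde, smul_zero,
          add_zero], h1, N, hN, hUN, n, hn, hne, n, hn, ?_⟩
      rw [map_add, LinearMap.add_apply, hxn n hn, zero_add, f_smul_left O]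
      exact hk
    obtain ⟨n', hn', hxn'⟩ := hxn
    have h2 := (shift O hN (z := x₁) (fun h => hxn' (h n' hn')) hn).mono hUN
    refine ⟨x₁ + n, add_mem (hUperp x₁ hx₁e) (fun u hu => mem_TI O hN n hn u (hUN hu)), ?_, hc₁.trans h2⟩
    rw [map_add, LinearMap.add_apply, hx₁e, zero_add]
    exact hne
  -- adding the values of members
  let X : Submodule F V :=
    Submodule.span F {n | ∃ N, Mem G K N ∧ U ≤ N ∧ n ∈ N}
  have hstep : ∀ n ∈ X, ∀ c : F, ∀ x ∈ perp f U, ∀ y ∈ perp f U, β x e ≠ 0 → β y e ≠ 0 →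
      β y e = β x e + c • β n e → Conn G U x y := by
    intro n hn
    induction hn using Submodule.span_induction with
    | mem n hn =>
      obtain ⟨N, hN, hUN, hn⟩ := hn
      intro c x hx y hy hxe hye hxy
      by_cases h0 : c • β n e = 0
      · exact hsame x y hxe (by rw [hxy, h0, add_zero])
      obtain ⟨k, hk⟩ := exists_trace_ne (F := F) (show β n e ≠ 0 from fun h => h0 (by rw [h, smul_zero]))
      have hz : ∃ z, β z e = β x e ∧ f z n ≠ 0 := by
        by_cases hxn : f x n = 0
        · refine ⟨x + k • e, ?_, ?_⟩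
          · rw [map_add, LinearMap.add_apply, map_smul, LinearMap.smul_apply, hee, smul_zero, add_zero]
          · rw [map_add, LinearMap.add_apply, hxn, zero_add, f_smul_left O, β_swap O, mul_neg, map_neg]
            exact neg_ne_zero.2 hk
        · exact ⟨x, rfl, hxn⟩
      obtain ⟨z, hze, hzn⟩ := hz
      have h2 := (shift O hN (z := z) (fun h => hzn (h n hn)) (N.smul_mem c hn)).mono hUN
      have hval : β (z + c • n) e = β y e := by
        rw [map_add, LinearMap.add_apply, hze, hxy, ← algebraMap_smul K c n, map_smul,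
          LinearMap.smul_apply, algebraMap_smul]
      exact (hsame x z hxe hze.symm).trans (h2.trans (hsame _ _ (by rw [hval]; exact hye) hval))
    | zero =>
      intro c x _ y _ hxe _ hxy
      exact hsame x y hxe (by simp [hxy])
    | add n₁ n₂ hn₁ hn₂ ih₁ ih₂ =>
      intro c x hx y hy hxe hye hxy
      have hXperp : ∀ n ∈ X, n ∈ perp f U := fun n hn => by
        refine Submodule.span_le.2 ?_ hn
        rintro m ⟨N, hN, hUN, hm⟩
        exact fun u hu => mem_TI O hN m hm u (hUN hu)
      rw [map_add, LinearMap.add_apply, smul_add] at hxy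
      have hv : ∀ n, β (x + c • n) e = β x e + c • β n e := fun n => by
        rw [map_add, LinearMap.add_apply, ← algebraMap_smul K c n, map_smul, LinearMap.smul_apply,
          algebraMap_smul]
      by_cases h1 : β x e + c • β n₁ e = 0
      swap
      · have hm := add_mem hx ((perp f U).smul_mem c (hXperp n₁ hn₁))
        refine (ih₁ c x hx _ hm hxe (by rw [hv]; exact h1) (hv n₁)).trans
          (ih₂ c _ hm y hy (by rw [hv]; exact h1) hye ?_)
        rw [hv, hxy, add_assoc]
      by_cases h3 : β x e + c • β n₂ e = 0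
      swap
      · have hm := add_mem hx ((perp f U).smul_mem c (hXperp n₂ hn₂))
        refine (ih₂ c x hx _ hm hxe (by rw [hv]; exact h3) (hv n₂)).trans
          (ih₁ c _ hm y hy (by rw [hv]; exact h3) hye ?_)
        rw [hv, hxy, add_assoc, add_comm (c • β n₁ e)]
      refine ih₁ (c + c) x hx y hy hxe hye ?_
      rw [hxy, add_smul, show c • β n₂ e = c • β n₁ e from add_left_cancel (h3.trans h1.symm)]
    | smul a n hn ih =>
      intro c x hx y hy hxe hye hxy
      refine ih (c * a) x hx y hy hxe hye ?_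
      rw [hxy, ← algebraMap_smul K a n, map_smul, LinearMap.smul_apply, algebraMap_smul, smul_smul]
  have hspan : ∀ y ∈ perp f U, y ∈ X := fun y hy => perp_perp O fun w hw => by
    have hwU : w ∈ U := hpm w fun N hN hUN n hn => hw n (Submodule.subset_span ⟨N, hN, hUN, hn⟩)
    exact hy w hwU
  intro x hx y hy hxU hyU
  obtain ⟨x', hx', hx'e, hxx⟩ := hreach x hx hxU
  obtain ⟨y', hy', hy'e, hyy⟩ := hreach y hy hyU
  refine hxx.trans ((hstep _ (hspan _ ((perp f U).sub_mem hy' hx')) 1 x' hx' y' hy' hx'e hy'e ?_).trans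
    hyy.symm)
  rw [one_smul, map_sub, LinearMap.sub_apply, add_sub_cancel]

/-- Transitivity below the degree. -/
theorem below_degree {e : V} (he : e ≠ 0) : Below f G (finrank F K) := by
  suffices h : ∀ s ≤ finrank F K, Below f G s from h _ le_rfl
  intro s
  induction s with
  | zero => exact fun _ U _ hU => absurd hU (Nat.not_lt_zero _)
  | succ s ih =>
    intro hs
    have hb := ih (by omega)
    rcases Nat.eq_zero_or_pos s with rfl | hs0
    · exact below_succ O hb (U := ⊥)
        (fun x hx y _ => by rw [(Submodule.mem_bot F).1 hx, map_zero, LinearMap.zero_apply])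
        (finrank_bot F V) (tr_bot O)
    · obtain ⟨U, hUL, hU⟩ := exists_sub (L := Lin F K e) (s := s) (by rw [finrank_lin he]; omega)
      exact below_succ O hb (fun x hx y hy => mem_TI O (mem_lin he) x (hUL hx) y (hUL hy)) hU
        (tr_in_line O hb hs0 (by omega) he hUL hU)

end

end CfsgLib.MaxSub.ExtSymp
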