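/-
An overgroup contains all transvections over the ground field.
-/
import Cfsg.Agent.Lib.MaxSub.ExtSymp.Trans

set_option autoImplicit false
set_option maxHeartbeats 400000
set_option linter.unusedSectionVars false

namespace CfsgLib.MaxSub.ExtSymp

open Module
open CfsgLib.MaxSub.ExtLin (Lin Mem Conn mem_lin mem_lin_iff finrank_lin)

variable {F K V : Type*} [Field F] [Fintype F] [Field K] [Algebra F K] [FiniteDimensional F K]
  [AddCommGroup V] [Module F V] [Module K V] [IsScalarTower F K V] [FiniteDimensional F V]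
  {f : V →ₗ[F] V →ₗ[F] F} {β : V →ₗ[K] V →ₗ[K] K} {G : Subgroup (V ≃ₗ[F] V)}

/-- The quadratic root element of a pair. -/
def PairIn (f : V →ₗ[F] V →ₗ[F] F) (G : Subgroup (V ≃ₗ[F] V)) (a : F) (u v : V) : Prop :=
  ∃ g ∈ G, ∀ y, g y = y + f y v • u + (f y u + a * f y v) • v

/-- The transvection of a vector and a scalar. -/
def TvIn (f : V →ₗ[F] V →ₗ[F] F) (G : Subgroup (V ≃ₗ[F] V)) (v : V) (c : F) : Prop :=
  ∃ g ∈ G, ∀ y, g y = y + (c * f y v) • v

/-- An element with non-zero trace of its square. -/
theorem exists_square_trace : ∃ η : K, Algebra.trace F K (η * η) ≠ 0 := by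
  haveI : Finite K := Module.finite_of_finite F
  obtain ⟨k, hk⟩ := exists_trace_ne (F := F) (one_ne_zero : (1 : K) ≠ 0)
  rw [mul_one] at hk
  by_cases h2 : (2 : K) = 0
  · haveI : CharP K 2 := CharTwo.of_one_ne_zero_of_two_eq_zero one_ne_zero h2
    obtain ⟨η, hη⟩ := FiniteField.isSquare_of_char_two (ringChar.eq K 2) k
    exact ⟨η, hη ▸ hk⟩
  · by_contra hc
    push Not at hc
    refine hk ?_
    rw [show k = (k + 1) / 2 * ((k + 1) / 2) - (k - 1) / 2 * ((k - 1) / 2) by field_simp; ring,
      map_sub, hc, hc, sub_zero]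

/-- The field is additively generated by its squares. -/
theorem squares_gen (S : AddSubgroup F) (h : ∀ x : F, x * x ∈ S) (c : F) : c ∈ S := by
  by_cases h2 : (2 : F) = 0
  · haveI : CharP F 2 := CharTwo.of_one_ne_zero_of_two_eq_zero one_ne_zero h2
    obtain ⟨η, hη⟩ := FiniteField.isSquare_of_char_two (ringChar.eq F 2) c
    exact hη ▸ h η
  · rw [show c = (c + 1) / 2 * ((c + 1) / 2) - (c - 1) / 2 * ((c - 1) / 2) by field_simp; ring]
    exact S.sub_mem (h _) (h _)

section

variable (O : ES f β G)
include O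

/-- Pairs in a line. -/
theorem exists_pairIn {e : V} (he : e ≠ 0) :
    ∃ (a : F) (u v : V), a ≠ 0 ∧ f u v = 0 ∧ LinearIndependent F ![u, v] ∧ PairIn f G a u v := by
  obtain ⟨η, hη⟩ := exists_square_trace (F := F) (K := K)
  let T := Algebra.trace F K
  let φ : K →ₗ[F] F := T.comp (LinearMap.mulLeft F η)
  haveI : Nontrivial (LinearMap.ker φ) := by
    refine Module.nontrivial_of_finrank_pos (R := F) ?_
    have h1 := LinearMap.finrank_range_add_finrank_ker φ
    have h2 := Submodule.finrank_le (LinearMap.range φ)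
    rw [Module.finrank_self] at h2
    have := O.prime.two_le
    omega
  obtain ⟨⟨ε, hε⟩, hε0⟩ := exists_ne (0 : LinearMap.ker φ)
  have hεη : T (η * ε) = 0 := hε
  have hεne : ε ≠ 0 := fun h => hε0 (Subtype.ext h)
  let ψ : K →ₗ[F] K := LinearMap.id + φ.smulRight ε
  have hψ : ∀ k, ψ k = k + T (η * k) • ε := fun k => rfl
  have hψinj : LinearMap.ker ψ = ⊥ := LinearMap.ker_eq_bot'.2 fun k hk => by
    rw [hψ] at hk
    have h1 : T (η * (k + T (η * k) • ε)) = 0 := by rw [hk, mul_zero, map_zero]
    rw [mul_add, map_add, Algebra.mul_smul_comm, map_smul, hεη, smul_zero, add_zero] at h1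
    rw [h1, zero_smul, add_zero] at hk
    exact hk
  let b := Module.finBasis F K
  let L : K →ₗ[F] V := ((LinearMap.id : K →ₗ[K] K).smulRight e).restrictScalars F
  have hL : LinearMap.ker L = ⊥ := LinearMap.ker_eq_bot'.2 fun k hk =>
    (smul_eq_zero.1 (show k • e = 0 from hk)).resolve_right he
  have hTI : ∀ k k' : K, f (L k) (L k') = 0 := fun k k' =>
    mem_TI O (mem_lin (F := F) (K := K) (G := G) he) _ (mem_lin_iff.2 ⟨k, rfl⟩) _ (mem_lin_iff.2 ⟨k', rfl⟩)
  obtain ⟨h, hh, hhb⟩ := move O (below_degree O he) le_rfl (fun i => L (b i)) (fun i => L (ψ (b i)))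
    (b.linearIndependent.map' L hL) ((b.linearIndependent.map' ψ hψinj).map' L hL)
    (fun i j => hTI _ _) (fun i j => hTI _ _)
  have hhL : ∀ k, h (k • e) = ψ k • e := fun k => by
    have : h.toLinearMap ∘ₗ L = L ∘ₗ ψ := b.ext fun i => hhb i
    exact LinearMap.congr_fun this k
  obtain ⟨t, ht, hty⟩ := O.tv 1 e
  refine ⟨T (η * η), η • e, ε • e, hη, hTI η ε, LinearIndependent.pair_iff.2 fun p q h0 => ?_,
    h * t * h⁻¹ * t⁻¹, mul_mem (mul_mem (mul_mem hh ht) (inv_mem hh)) (inv_mem ht), fun y => ?_⟩
  · have h1 : p • η + q • ε = 0 := by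
      refine (smul_eq_zero.1 ?_).resolve_right he
      rw [add_smul, smul_assoc, smul_assoc]; exact h0
    have h2 : p * T (η * η) = 0 := by
      have := congrArg (fun x => T (η * x)) h1
      simp only [mul_add, Algebra.mul_smul_comm, map_add, map_smul, mul_zero, map_zero, hεη, smul_zero,
        add_zero, smul_eq_mul] at this
      exact this
    have hp : p = 0 := (mul_eq_zero.1 h2).resolve_right hη
    rw [hp, zero_smul, zero_add, smul_eq_zero] at h1
    exact ⟨hp, h1.resolve_right hεne⟩
  set ξ := β y e with hξ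
  have hti : t.symm y = y - ξ • e := by
    apply t.injective
    rw [t.apply_symm_apply, hty, map_sub, map_smul, LinearMap.sub_apply, LinearMap.smul_apply, O.alt,
      smul_zero, sub_zero, one_mul, ← hξ, sub_add_cancel]
  have hxi : β (y - ξ • e) e = ξ := by
    rw [map_sub, map_smul, LinearMap.sub_apply, LinearMap.smul_apply, O.alt, smul_zero, sub_zero]
  have hinv : β (h.symm (y - ξ • e)) e = ξ + T (ε * ξ) • η := by
    refine sub_eq_zero.1 (eq_zero_of_trace (F := F) fun c => ?_)
    have h1 : f (h.symm (y - ξ • e)) (c • e) = f (y - ξ • e) (ψ c • e) := by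
      rw [← O.iso h hh, h.apply_symm_apply, hhL]
    rw [f_smul_right O, f_smul_right O, hxi, hψ, add_mul, map_add, smul_mul_assoc, map_smul] at h1
    rw [mul_sub, mul_add, map_sub, map_add, Algebra.mul_smul_comm, map_smul, h1, mul_comm c η]
    simp only [T, smul_eq_mul]
    ring
  show h (t (h.symm (t.symm y))) = _
  rw [hti, hty, hinv, map_add, h.apply_symm_apply, one_mul, hhL, hψ, f_smul_right O, f_smul_right O, ← hξ]
  simp only [mul_add, map_add, Algebra.mul_smul_comm, map_smul, smul_eq_mul, T, add_smul, smul_assoc,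
    mul_smul]
  module

theorem pairIn_all {a : F} {u v : V} (huv : f u v = 0) (hli : LinearIndependent F ![u, v])
    (h : PairIn f G a u v) {u' v' : V} (huv' : f u' v' = 0) (hli' : LinearIndependent F ![u', v']) :
    PairIn f G a u' v' := by
  have hu : u ≠ 0 := hli.ne_zero 0
  obtain ⟨g, hg, hgi⟩ := move O (below_degree O hu) (i := 2) O.prime.two_le ![u, v] ![u', v'] hli hli'
    (fun i j => by
      fin_cases i <;> fin_cases j <;>
        simp [f_self O, huv, show f v u = 0 by rw [f_swap O, huv, neg_zero]])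
    (fun i j => by
      fin_cases i <;> fin_cases j <;>
        simp [f_self O, huv', show f v' u' = 0 by rw [f_swap O, huv', neg_zero]])
  obtain ⟨p, hp, hpy⟩ := h
  refine ⟨g * p * g⁻¹, mul_mem (mul_mem hg hp) (inv_mem hg), fun y => ?_⟩
  obtain ⟨z, rfl⟩ := g.surjective y
  have h0 : g u = u' := hgi 0
  have h1 : g v = v' := hgi 1
  show g (p (g.symm (g z))) = _
  rw [g.symm_apply_apply, hpy, map_add, map_add, map_smul, map_smul, h0, h1, ← h0, ← h1, O.iso g hg,
    O.iso g hg]

/-- All transvections. -/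
theorem tvIn_all (h5 : 5 ≤ finrank F V) (v : V) (c : F) : TvIn f G v c := by
  rcases eq_or_ne v 0 with rfl | hv
  · exact ⟨1, one_mem G, fun y => by rw [smul_zero, add_zero]; rfl⟩
  obtain ⟨a, u₀, v₀, ha, huv₀, hli₀, hP⟩ := exists_pairIn O hv
  have hall : ∀ u w, f u w = 0 → LinearIndependent F ![u, w] → PairIn f G a u w :=
    fun u w => pairIn_all O huv₀ hli₀ hP
  have hperp : ∀ U : Submodule F V, 2 * finrank F U < finrank F V → ∃ x ∈ perp f U, x ∉ U := fun U hU => by
    by_contra hc
    push Not at hc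
    let φ : V →ₗ[F] Dual F U := (f.flip.domRestrict U).flip
    have hker : LinearMap.ker φ ≤ perp f U := fun y hy u hu => LinearMap.congr_fun (LinearMap.mem_ker.1 hy) ⟨u, hu⟩
    have h1 := LinearMap.finrank_range_add_finrank_ker φ
    have h2 := Submodule.finrank_le (LinearMap.range φ)
    have h3 := Submodule.finrank_mono (hker.trans hc)
    rw [Subspace.dual_finrank_eq] at h2
    omega
  -- the transvection with the coefficient `a`
  have hT : ∀ w, w ≠ 0 → TvIn f G w a := by
    intro w hw
    obtain ⟨u, hu, huw⟩ := hperp (F ∙ w) (by rw [finrank_span_singleton hw]; omega)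
    have huw0 : f u w = 0 := hu w (Submodule.mem_span_singleton_self w)
    have hli : LinearIndependent F ![u, w] := by
      refine LinearIndependent.pair_iff.2 fun p q h0 => ?_
      have hp : p = 0 := by
        by_contra hp
        refine huw (Submodule.mem_span_singleton.2 ⟨-(q / p), ?_⟩)
        apply smul_right_injective V hp
        show p • (-(q / p)) • w = p • u
        rw [smul_smul, mul_neg, mul_div_cancel₀ _ hp, neg_smul, eq_comm]
        exact eq_neg_of_add_eq_zero_left h0
      rw [hp, zero_smul, zero_add, smul_eq_zero] at h0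
      exact ⟨hp, h0.resolve_right hw⟩
    have hdim : finrank F ↥(Submodule.span F (Set.range ![u, w])) = 2 := by
      rw [finrank_span_eq_card hli]; rfl
    obtain ⟨x, hx, hxs⟩ := hperp _ (by rw [hdim]; omega)
    have hxu : f x u = 0 := hx u (Submodule.subset_span ⟨0, rfl⟩)
    have hxw : f x w = 0 := hx w (Submodule.subset_span ⟨1, rfl⟩)
    have hlix : ∀ z ∈ ({x, x + u} : Set V), LinearIndependent F ![z, w] := by
      intro z hz
      refine LinearIndependent.pair_iff.2 fun p q h0 => ?_
      have hp : p = 0 := by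
        by_contra hp
        have hzs : z ∈ Submodule.span F (Set.range ![u, w]) := by
          have hzw : z = (-(q / p)) • w := by
            apply smul_right_injective V hp
            show p • z = p • (-(q / p)) • w
            rw [smul_smul, mul_neg, mul_div_cancel₀ _ hp, neg_smul]
            exact eq_neg_of_add_eq_zero_left h0
          rw [hzw]
          exact Submodule.smul_mem _ _ (Submodule.subset_span ⟨1, rfl⟩)
        rcases hz with rfl | hz
        · exact hxs hzs
        · rw [Set.mem_singleton_iff] at hz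
          subst hz
          exact hxs (by simpa using Submodule.sub_mem _ hzs (Submodule.subset_span (⟨0, rfl⟩ : u ∈ Set.range ![u, w])))
      rw [hp, zero_smul, zero_add, smul_eq_zero] at h0
      exact ⟨hp, h0.resolve_right hw⟩
    obtain ⟨g₁, hg₁, e₁⟩ := hall (x + u) w (by rw [map_add, LinearMap.add_apply, hxw, huw0, add_zero])
      (hlix _ (Or.inr rfl))
    obtain ⟨g₂, hg₂, e₂⟩ := hall x w hxw (hlix _ (Or.inl rfl))
    obtain ⟨g₃, hg₃, e₃⟩ := hall u w huw0 hli
    refine ⟨g₃ * (g₁ * g₂⁻¹)⁻¹, mul_mem hg₃ (inv_mem (mul_mem hg₁ (inv_mem hg₂))), fun y => ?_⟩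
    obtain ⟨z, rfl⟩ := (g₁ * g₂⁻¹).surjective y
    obtain ⟨t, rfl⟩ := g₂.surjective z
    have hgy : (g₁ * g₂⁻¹) (g₂ t) = g₁ t := by
      show g₁ (g₂.symm (g₂ t)) = g₁ t
      rw [g₂.symm_apply_apply]
    show g₃ ((g₁ * g₂⁻¹).symm ((g₁ * g₂⁻¹) (g₂ t))) = _
    rw [LinearEquiv.symm_apply_apply, hgy, e₁, e₃, e₂]
    have hwu : f w u = 0 := by rw [f_swap O, huw0, neg_zero]
    simp only [map_add, map_smul, LinearMap.add_apply, LinearMap.smul_apply, hxu, hxw, huw0, hwu,
      f_self O, smul_eq_mul, mul_zero, add_zero, zero_add]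
    module
  let S : AddSubgroup F :=
    { carrier := {d | TvIn f G v (d * a)}
      zero_mem' := ⟨1, one_mem G, fun y => by simp⟩
      add_mem' := by
        rintro d d' ⟨g, hg, e⟩ ⟨g', hg', e'⟩
        refine ⟨g * g', mul_mem hg hg', fun y => ?_⟩
        show g (g' y) = _
        rw [e', e]
        simp only [map_add, map_smul, LinearMap.add_apply, LinearMap.smul_apply, f_self O, smul_eq_mul,
          mul_zero, add_zero]
        module
      neg_mem' := by
        rintro d ⟨g, hg, e⟩
        refine ⟨g⁻¹, inv_mem hg, fun y => g.injective ?_⟩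
        show g (g.symm y) = _
        rw [g.apply_symm_apply, e]
        simp only [map_add, map_smul, LinearMap.add_apply, LinearMap.smul_apply, f_self O, smul_eq_mul,
          mul_zero, add_zero]
        module }
  have h1 : c / a ∈ S := squares_gen S (fun d => by
    rcases eq_or_ne d 0 with rfl | hd
    · rw [mul_zero]; exact S.zero_mem
    obtain ⟨g, hg, e⟩ := hT (d • v) (smul_ne_zero hd hv)
    refine ⟨g, hg, fun y => ?_⟩
    rw [e, map_smul, smul_eq_mul, smul_smul]
    congr 2
    ring) (c / a)
  have h2 : TvIn f G v (c / a * a) := h1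
  rwa [div_mul_cancel₀ c ha] at h2

end

end CfsgLib.MaxSub.ExtSymp
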