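/-
Normalisers of extension fields of symplectic type are maximal.
-/
import Cfsg.Agent.Lib.MaxSub.ExtSymp.Transvection
import Cfsg.Agent.Lib.MaxSub.ExtLin.Main
import Cfsg.Agent.Lib.MaxSub.ExtFieldMaximalGUSp

set_option autoImplicit false
set_option maxHeartbeats 400000
set_option linter.unusedSectionVars false

namespace CfsgLib.MaxSub.ExtSymp

open Matrix Module Cfsg Cfsg.Geo
open CfsgLib.Aschbacher (isRefl_sympForm sT sT_mulVec)
open CfsgLib.MaxSub.GUSp (bf bf_self bf_swap tv_apply bf_isometry)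

variable {F : Type*} [Field F] [Fintype F] {m : ℕ}

local notation "V" => (Fin m ⊕ Fin m → F)
local notation "M2m" => Matrix (Fin m ⊕ Fin m) (Fin m ⊕ Fin m) F

/-- The matrix group as a group of linear maps. -/
noncomputable def gmapS : GL (Fin m ⊕ Fin m) F ≃* ((Fin m ⊕ Fin m → F) ≃ₗ[F] (Fin m ⊕ Fin m → F)) :=
  (Matrix.GeneralLinearGroup.toLin).trans
    (LinearMap.GeneralLinearGroup.generalLinearEquiv F (Fin m ⊕ Fin m → F))

omit [Fintype F] in
theorem gmapS_apply (g : GL (Fin m ⊕ Fin m) F) (x : V) : gmapS g x = (g : M2m) *ᵥ x := rfl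

/-- An overgroup of the normaliser outside it contains the symplectic group. -/
theorem over_of {L : Type*} [Field L] [Algebra F L] {r : ℕ} (hr : r.Prime) (hrank : finrank F L = r)
    (hm : 3 ≤ m) {A : Subalgebra F M2m} (ρ : L →ₐ[F] M2m)
    (hρ : ∀ M, M ∈ A ↔ ∃ l, ρ l = M) (hinj : Function.Injective ρ)
    (hsa' : ∀ (k : L) (u v : V), bf (ρ k *ᵥ u) v = (bf u (ρ k *ᵥ v) : F))
    (halt' : ∀ (k : L) (v : V), bf (ρ k *ᵥ v) v = (0 : F))
    {M : Subgroup (GL (Fin m ⊕ Fin m) F)} (hle : subalgebraNormalizer A ⊓ Cfsg.spGL m F ≤ M)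
    (hMG : M ≤ Cfsg.spGL m F) {g₀ : GL (Fin m ⊕ Fin m) F} (hg₀ : g₀ ∈ M)
    (hg₀N : g₀ ∉ subalgebraNormalizer A) : Cfsg.spGL m F ≤ M := by
  classical
  letI : Module L V := Module.compHom _
    ((Matrix.toLinAlgEquiv' : M2m ≃ₐ[F] _).toAlgHom.toRingHom.comp ρ.toRingHom)
  have hsmul : ∀ (k : L) (x : V), k • x = ρ k *ᵥ x := fun k x => Matrix.toLinAlgEquiv'_apply _ _
  haveI : IsScalarTower F L V := ⟨fun a k x => by
    rw [hsmul, hsmul, map_smul, Matrix.smul_mulVec]⟩
  have hsa : ∀ (k : L) (u v : V), bf (k • u) v = (bf u (k • v) : F) := fun k u v => by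
    rw [hsmul, hsmul]; exact hsa' k u v
  have halt : ∀ (k : L) (v : V), bf (k • v) v = (0 : F) := fun k v => by
    rw [hsmul]; exact halt' k v
  haveI : FiniteDimensional F L := FiniteDimensional.of_finrank_pos (by rw [hrank]; exact hr.pos)
  haveI : Finite L := Module.finite_of_finite F
  haveI : Module.Finite L V := Module.Finite.right F L V
  -- the form over the extension field
  let D := (Algebra.traceForm F L).toDual (traceForm_nondegenerate F L)
  let φ : V → V → Dual F L := fun x y =>
    { toFun := fun k => bf (k • x) y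
      map_add' := fun a b => by rw [add_smul, map_add, LinearMap.add_apply]
      map_smul' := fun a k => by rw [smul_assoc, map_smul, LinearMap.smul_apply, RingHom.id_apply] }
  let b : V → V → L := fun x y => D.symm (φ x y)
  have hb : ∀ x y k, Algebra.trace F L (b x y * k) = bf (k • x) y := fun x y k => by
    rw [← Algebra.traceForm_apply]
    exact LinearMap.BilinForm.apply_toDual_symm_apply (hB := traceForm_nondegenerate F L) (φ x y) k
  have hext : ∀ {p p' : L}, (∀ k, Algebra.trace F L (p * k) = Algebra.trace F L (p' * k)) → p = p' :=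
    fun {p p'} h => sub_eq_zero.1 (eq_zero_of_trace (F := F) fun k => by
      rw [mul_comm, sub_mul, map_sub, h, sub_self])
  let β : V →ₗ[L] V →ₗ[L] L := LinearMap.mk₂ L b
    (fun x x' y => hext fun k => by
      rw [add_mul, map_add, hb, hb, hb, smul_add, map_add, LinearMap.add_apply])
    (fun a x y => hext fun k => by
      rw [smul_eq_mul, hb, smul_smul, ← hb]
      congr 1
      ring)
    (fun x y y' => hext fun k => by rw [add_mul, map_add, hb, hb, hb, map_add])
    (fun a x y => hext fun k => by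
      rw [smul_eq_mul, hb, ← hsa, smul_smul, mul_comm a (b x y), mul_assoc, hb])
  have htr : ∀ x y, (bf x y : F) = Algebra.trace F L (β x y) := fun x y => by
    have := hb x y 1
    rw [one_smul, mul_one] at this
    exact this.symm
  have hβalt : ∀ x, β x x = 0 := fun x => hext fun k => by
    rw [show β x x = b x x from rfl, hb, halt, zero_mul, map_zero]
  -- normalisation
  have hnorm : ∀ g : GL (Fin m ⊕ Fin m) F, (∀ (k : L) (v : V), gmapS g (k • v) ∈ L ∙ gmapS g v) →
      g ∈ subalgebraNormalizer A := by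
    intro g hg
    have hm' : ∀ v : V, ∃ z, z ∉ L ∙ v := fun v => by
      by_contra hc
      push Not at hc
      have hnd : ∀ x : V, ∀ y : V, bf x y = (0 : F) := fun x y => by
        obtain ⟨a, rfl⟩ := Submodule.mem_span_singleton.1 (hc x)
        obtain ⟨c, rfl⟩ := Submodule.mem_span_singleton.1 (hc y)
        rw [← hsa, smul_smul]
        exact halt _ v
      obtain ⟨x, hx⟩ : ∃ x : V, x ≠ 0 := ⟨Pi.single (Sum.inl ⟨0, by omega⟩) 1, by simp⟩
      obtain ⟨-, y, hy⟩ := (isRefl_sympForm (F := F) m).nondeg x hx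
      exact hy (hnd x y)
    have hsemi : ∀ k : L, ∃ k' : L, ∀ v, gmapS g (k • v) = k' • gmapS g v := by
      refine ExtLin.exists_semilinear hm' hg ?_
      intro k v
      by_cases hv : v = 0
      · simp [hv]
      let Lm : L →ₗ[F] V :=
        (gmapS g).toLinearMap ∘ₗ ((LinearMap.id : L →ₗ[L] L).smulRight ((gmapS g).symm v)).restrictScalars F
      have hL : ∀ a, Lm a = gmapS g (a • (gmapS g).symm v) := fun a => rfl
      have hle' : LinearMap.range Lm ≤ (L ∙ v).restrictScalars F := by
        rintro _ ⟨a, rfl⟩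
        have := hg a ((gmapS g).symm v)
        rwa [LinearEquiv.apply_symm_apply] at this
      have hker : LinearMap.ker Lm = ⊥ := LinearMap.ker_eq_bot'.2 fun a ha =>
        (smul_eq_zero.1 ((gmapS g).map_eq_zero_iff.1 ((hL a).symm.trans ha))).resolve_right
          fun e => hv ((gmapS g).symm.map_eq_zero_iff.1 e)
      have heq : LinearMap.range Lm = (L ∙ v).restrictScalars F :=
        Submodule.eq_of_le_of_finrank_eq hle' (by
          rw [LinearMap.finrank_range_of_inj (LinearMap.ker_eq_bot.1 hker),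
            ← ExtLin.finrank_lin (F := F) (K := L) hv]
          rfl)
      obtain ⟨a, ha⟩ := heq.ge (show k • v ∈ (L ∙ v).restrictScalars F from
        Submodule.mem_span_singleton.2 ⟨k, rfl⟩)
      exact Submodule.mem_span_singleton.2 ⟨a, by rw [← ha, hL, LinearEquiv.symm_apply_apply]⟩
    choose θ hθ using hsemi
    have hval : ∀ k : L, ρ (θ k) = (g : M2m) * ρ k * ((g⁻¹ : GL (Fin m ⊕ Fin m) F) : M2m) := fun k => by
      refine Matrix.toLin'.injective (LinearMap.ext fun v => ?_)
      have h := hθ k (((g⁻¹ : GL (Fin m ⊕ Fin m) F) : M2m) *ᵥ v)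
      rw [gmapS_apply, gmapS_apply, hsmul, hsmul, Matrix.mulVec_mulVec v (g : M2m), Units.mul_inv,
        Matrix.one_mulVec, Matrix.mulVec_mulVec, Matrix.mulVec_mulVec] at h
      exact h.symm
    have hsur : Function.Surjective θ := Finite.surjective_of_injective fun a b hab => hinj (by
      have := congrArg ρ hab
      rw [hval, hval] at this
      exact g.isUnit.mul_left_cancel ((g⁻¹).isUnit.mul_right_cancel this))
    intro N
    refine ⟨fun hN => ?_, fun hN => ?_⟩
    · obtain ⟨k, rfl⟩ := (hρ N).1 hN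
      exact hval k ▸ (hρ _).2 ⟨_, rfl⟩
    · obtain ⟨l, hl⟩ := (hρ _).1 hN
      obtain ⟨a, rfl⟩ := hsur l
      rw [hval] at hl
      exact g.isUnit.mul_left_cancel ((g⁻¹).isUnit.mul_right_cancel hl) ▸ (hρ _).2 ⟨_, rfl⟩
  have hmem : ∀ g', g' ∈ M.map gmapS.toMonoidHom ↔ gmapS.symm g' ∈ M := fun g' => by
    refine ⟨?_, fun h => ⟨_, h, gmapS.apply_symm_apply g'⟩⟩
    rintro ⟨g, hg, rfl⟩
    simpa using hg
  have O : ES (bf : V →ₗ[F] V →ₗ[F] F) β (M.map gmapS.toMonoidHom) := by
    refine
      { tr := htr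
        alt := hβalt
        nd := fun x hx => by
          by_contra hx0
          obtain ⟨-, y, hy⟩ := (isRefl_sympForm (F := F) m).nondeg x hx0
          exact hy (hx y)
        tv := fun a d => ?_
        iso := ?_
        prime := by rw [hrank]; exact hr
        nospread := ?_ }
    · let T : V →ₗ[L] V := LinearMap.id + (a • β.flip d).smulRight d
      have hT : ∀ y, T y = y + (a * β y d) • d := fun y => rfl
      have hinjT : Function.Injective T := LinearMap.ker_eq_bot.1 (LinearMap.ker_eq_bot'.2 fun y hy => by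
        rw [hT] at hy
        have h1 : β y d = 0 := by
          have := congrArg (fun z => β z d) hy
          simp only [map_add, map_smul, LinearMap.add_apply, LinearMap.smul_apply, hβalt, smul_zero,
            add_zero, map_zero, LinearMap.zero_apply] at this
          exact this
        rwa [h1, mul_zero, zero_smul, add_zero] at hy)
      let e : V ≃ₗ[L] V := LinearEquiv.ofBijective T ⟨hinjT, Finite.surjective_of_injective hinjT⟩
      refine ⟨e.restrictScalars F, (hmem _).2 (hle ⟨hnorm _ fun k v => ?_, fun x y => ?_⟩), hT⟩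
      · rw [MulEquiv.apply_symm_apply]
        exact Submodule.mem_span_singleton.2 ⟨k, (e.map_smul k v).symm⟩
      · show (bf _ _ : F) = bf x y
        have he : ∀ z, ((gmapS.symm (e.restrictScalars F) : GL (Fin m ⊕ Fin m) F) : M2m) *ᵥ z = T z :=
          fun z => by rw [← gmapS_apply, MulEquiv.apply_symm_apply]; rfl
        rw [show ((Cfsg.glToMat (Fin m ⊕ Fin m) F) (gmapS.symm (e.restrictScalars F)) *ᵥ x) = T x from he x,
          show ((Cfsg.glToMat (Fin m ⊕ Fin m) F) (gmapS.symm (e.restrictScalars F)) *ᵥ y) = T y from he y,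
          htr, htr, hT, hT]
        congr 1
        simp only [map_add, map_smul, LinearMap.add_apply, LinearMap.smul_apply, hβalt, smul_eq_mul,
          mul_zero, add_zero]
        have hs : β d y = -β y d := by
          have := hβalt (d + y)
          simp only [map_add, LinearMap.add_apply, hβalt] at this
          linear_combination this
        rw [hs]
        ring
    · rintro _ ⟨g, hg, rfl⟩ x y
      exact bf_isometry (hMG hg) x y
    · have := mt (hnorm g₀) hg₀N
      push Not at this
      exact ⟨gmapS g₀, ⟨g₀, hg₀, rfl⟩, this⟩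
  refine spGL_le_of_centre fun v c => ?_
  obtain ⟨g, hg, hgy⟩ := tvIn_all O (by simp; omega) v c
  rw [hmem] at hg
  convert hg using 1
  refine gmapS.injective ?_
  rw [gmapS.apply_symm_apply]
  refine LinearEquiv.ext fun y => ?_
  rw [hgy, gmapS_apply, tv_apply]

/-- The normaliser of an extension field of symplectic type is maximal. -/
theorem ext_symp_maximal (hm : 3 ≤ m) {r : ℕ} (hr : r.Prime) {A : Subalgebra F M2m}
    (hA : IsFieldSubalgebra r A) (hsa : IsSelfAdjointFor (Cfsg.sympForm m F) A)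
    (halt : ∀ k ∈ A, ∀ v : V, Cfsg.sympForm m F (k *ᵥ v) v = 0) :
    IsMaximalIn (Cfsg.spGL m F) (subalgebraNormalizer A ⊓ Cfsg.spGL m F) := by
  haveI : Nonempty (Fin m ⊕ Fin m) := ⟨Sum.inl ⟨0, by omega⟩⟩
  refine ⟨lt_of_le_of_ne inf_le_right fun e =>
    CfsgLib.Aschbacher.spGL_not_le_subalgebraNormalizer (by omega) hA hr.one_lt (e.ge.trans inf_le_left),
    fun M hle hMG => ?_⟩
  by_cases h : M ≤ subalgebraNormalizer A
  · exact Or.inl (le_antisymm (le_inf h hMG) hle)
  obtain ⟨g₀, hg₀, hg₀N⟩ := SetLike.not_le_iff_exists.1 h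
  have hfield : IsField ↥A := by
    refine ⟨⟨0, 1, fun h => zero_ne_one (congrArg (fun x : ↥A => (x : M2m)) h)⟩,
      fun x y => Subtype.ext (hA.comm x x.2 y y.2), fun {a} ha => ?_⟩
    obtain ⟨y, hy, hay⟩ := hA.inv a a.2 fun h => ha (Subtype.ext h)
    exact ⟨⟨y, hy⟩, Subtype.ext hay⟩
  letI : Field ↥A := hfield.toField
  exact Or.inr (le_antisymm hMG (over_of (L := ↥A) hr hA.finrank_eq hm A.val
    (fun N => ⟨fun hN => ⟨⟨N, hN⟩, rfl⟩, fun ⟨l, hl⟩ => hl ▸ l.2⟩) Subtype.val_injective
    (fun k u v => hsa _ k.2 u v) (fun k v => halt _ k.2 v) hle hMG hg₀ hg₀N))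

end CfsgLib.MaxSub.ExtSymp
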